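import Cfsg.Agent.H928.Ore.Frame
import Cfsg.Agent.H777.Ore.Base
import Cfsg.Agent.OddHalf.NI.Mult
import Cfsg.Agent.H68.Bounds

/-!
# Ore's theorem for covers, the generic step (S2491, S2492, piece C1)

`π : E →* Y` surjective, central kernel of order prime to `p`, `Y` with a root group datum.

* `exists_lift` : homomorphisms of a perfect group `S` with multiplier of order prime to `|ker π|` lift to `E`;
* `ut_lift` : `UJ`, `UNJ` of the lifted datum lie in the images of the unitriangular groups;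
* `mem_LJ_lift` : the Levi subgroup of the lifted datum is the preimage;
* `nf_lift` : no fixed points on `VJ`, `VNJ`;
* `isC_lift` : all elements outside the kernel are commutators.
-/

set_option autoImplicit false
set_option linter.unusedSectionVars false

namespace Cfsg.Agent.H643.QO

open CoxeterSystem Cfsg.Agent.ChevalleyStructure.CoxeterGeom Cfsg.Agent.Tits.Roots Cfsg.Agent.Tits.Core
  Cfsg.Agent.Nodes.Reps
  Cfsg.Agent.Nodes.BNOf Cfsg.Agent.Nodes.StabComb Cfsg.Agent.Nodes.RGDLift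
  Cfsg.Agent.Nodes.RGDLib Cfsg.Agent.Nodes.Bruhat Cfsg.Agent.Nodes.OppDec Cfsg.Agent.Nodes.LeviDec
  Cfsg.Agent.OddHalf.NI.Mult
  Cfsg.Agent.H162.GaussDec Cfsg.Agent.H162.GaussLevi Cfsg.Agent.H162.GaussSL
open Cfsg.Agent.H928.Ore.Frame (NF LP)
open Cfsg.Agent.H51.Mult (PCE)

universe u v w

section Lift

variable {S : Type u} {E : Type v} {Y : Type w} [Group S] [Group E] [Group Y]

open Cfsg.Agent.H68.Bounds in
/-- **Lifting homomorphisms** of a perfect group through a central extension whose kernel has order prime to the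
multiplier. -/
theorem exists_lift {m : ℕ} (hm : Cfsg.HasCyclicSchurMultiplier S m) (hS : commutator S = ⊤) (f : S →* Y)
    {π : E →* Y} (hs : Function.Surjective π) (hc : π.ker ≤ Subgroup.center E)
    (hco : (Nat.card π.ker).Coprime m) : ∃ f' : S →* E, π.comp f' = f := by
  -- the fibre product and its first projection
  let P := fib f π
  let q : P →* S := (MonoidHom.fst S E).comp P.subtype
  have hq : Function.Surjective q := by
    intro s
    obtain ⟨e, he⟩ := hs (f s)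
    exact ⟨⟨(s, e), he.symm⟩, rfl⟩
  have hqk : ∀ x : P, q x = 1 → π x.1.2 = 1 := by
    intro x hx
    have h1 : f x.1.1 = π x.1.2 := x.2
    have h2 : x.1.1 = 1 := hx
    rw [← h1, h2, map_one]
  have hqz : q.ker ≤ Subgroup.center P := by
    intro x hx
    rw [Subgroup.mem_center_iff]
    intro y
    apply Subtype.ext
    have h2 : x.1.1 = 1 := hx
    refine Prod.ext ?_ (Subgroup.mem_center_iff.1 (hc (hqk x hx)) y.1.2)
    show y.1.1 * x.1.1 = x.1.1 * y.1.1
    rw [h2, one_mul, mul_one]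
  have hD := Cfsg.Agent.H51.Tools.pce_of_central hq hqz hS
  set ρ := q.comp (commutator P).subtype with hρ
  -- the kernel is trivial
  obtain ⟨-, hk⟩ := ker_of_hasCyclic hm hD
  let j : ρ.ker →* π.ker :=
    { toFun := fun x => ⟨x.1.1.1.2, hqk _ x.2⟩
      map_one' := rfl
      map_mul' := fun _ _ => rfl }
  have hj : Function.Injective j := by
    intro x y hxy
    have h1 : x.1.1.1.2 = y.1.1.1.2 := congrArg Subtype.val hxy
    have h2 : x.1.1.1.1 = y.1.1.1.1 := by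
      have h3 : x.1.1.1.1 = 1 := x.2
      have h4 : y.1.1.1.1 = 1 := y.2
      rw [h3, h4]
    exact Subtype.ext (Subtype.ext (Subtype.ext (Prod.ext h2 h1)))
  have hk1 : Nat.card ρ.ker = 1 := by
    have h1 : Nat.card ρ.ker ∣ Nat.card π.ker := Subgroup.card_dvd_of_injective j hj
    exact Nat.eq_one_of_dvd_coprimes hco h1 hk
  have hinj : Function.Injective ρ := by
    rw [← MonoidHom.ker_eq_bot_iff]
    exact Subgroup.card_eq_one.1 hk1
  let e : ↥(commutator P) ≃* S := MulEquiv.ofBijective ρ ⟨hinj, hD.surj⟩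
  refine ⟨((MonoidHom.snd S E).comp P.subtype).comp ((commutator P).subtype.comp e.symm.toMonoidHom), ?_⟩
  ext s
  have h1 : f (e.symm s).1.1.1 = π (e.symm s).1.1.2 := (e.symm s).1.2
  have h2 : (e.symm s).1.1.1 = s := e.apply_symm_apply s
  show π (e.symm s).1.1.2 = f s
  rw [← h1, h2]

end Lift

section UT

variable {K : Type*} [Field K] {n : ℕ}

/-- `UT` is a `p`-group -/
theorem isPGroup_UT (p : ℕ) [hp : Fact p.Prime] [CharP K p] : IsPGroup p ↥(UT n K) := by
  obtain ⟨N, hN⟩ : ∃ N, n ≤ p ^ N := ⟨n, (Nat.lt_pow_self hp.out.one_lt).le⟩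
  rintro ⟨A, hA⟩
  refine ⟨N, Subtype.ext (Subtype.ext ?_)⟩
  have h0 : (A.1 - 1) ^ n = 0 := by
    have h1 : A.1.charpoly = (Polynomial.X - Polynomial.C 1) ^ n := by
      rw [Matrix.charpoly_of_isUpperTriangular _ hA.1]
      simp [hA.2]
    have h2 := Matrix.aeval_self_charpoly A.1
    rw [h1, map_pow, map_sub, Polynomial.aeval_X, Polynomial.aeval_C, map_one] at h2
    exact h2
  have h1 : (A.1 - 1) ^ (p ^ N) = 0 := by
    obtain ⟨k, hk⟩ := Nat.exists_eq_add_of_le hN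
    rw [hk, pow_add, h0, zero_mul]
  rcases Nat.eq_zero_or_pos n with hn | hn
  · subst hn
    exact Subsingleton.elim _ _
  haveI : Nonempty (Fin n) := ⟨⟨0, hn⟩⟩
  haveI : CharP (Matrix (Fin n) (Fin n) K) p := inferInstance
  have h2 : (A.1 - 1) ^ (p ^ N) = A.1 ^ (p ^ N) - 1 ^ (p ^ N) :=
    sub_pow_char_pow_of_commute _ _ (Commute.one_right A.1)
  rw [h1, one_pow] at h2
  exact (sub_eq_zero.1 h2.symm)

/-- `LT` is a `p`-group -/
theorem isPGroup_LT (p : ℕ) [hp : Fact p.Prime] [CharP K p] : IsPGroup p ↥(LT n K) := by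
  rintro ⟨A, hA⟩
  obtain ⟨N, hN⟩ := isPGroup_UT (K := K) (n := n) p ⟨tr A, hA⟩
  have h1 : tr A ^ p ^ N = 1 := by simpa using congrArg Subtype.val hN
  have h2 : ∀ k : ℕ, tr (A ^ k) = tr A ^ k := by
    intro k
    induction k with
    | zero => rw [pow_zero, pow_zero, tr_one]
    | succ k ih => rw [pow_succ, tr_mul, ih, pow_succ']
  refine ⟨N, Subtype.ext ?_⟩
  have h3 : tr (A ^ p ^ N) = 1 := by rw [h2, h1]
  have h4 : ∀ B : Matrix.SpecialLinearGroup (Fin n) K, tr (tr B) = B := fun B =>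
    Subtype.ext (Matrix.transpose_transpose B.1)
  calc A ^ p ^ N = tr (tr (A ^ p ^ N)) := (h4 _).symm
    _ = 1 := by rw [h3, tr_one]

end UT

section Rgd

variable {I W Y E : Type*} [Fintype I] [DecidableEq I] [Group W] [Finite W] [Group Y] [Group E] [Finite E]
  {M : CoxeterMatrix I} {cs : CoxeterSystem M W} {A : I → I → ℤ} {h : IsCartan M A} {p : ℕ} [Fact p.Prime]
  {T : Subgroup Y} {n : I → Y} {X : (I → ℤ) → Subgroup Y} {π : E →* Y}

theorem sup_le_lft (S : Set (I → ℤ)) : RGD.Sup (fun x => lft p π (X x)) S ≤ lft p π (RGD.Sup X S) :=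
  RGD.Sup_le fun _ hx => lft_mono p π (RGD.le_Sup hx)

theorem isPGroup_UN' (R : RGD cs h p T n X) : IsPGroup p ↥(UN cs h X) := by
  obtain ⟨k, hk⟩ := exists_rp cs R.nsys (w0 cs)
  have h1 := cj_U R hk
  rw [← h1]
  exact R.isPGroup_Upos.map _

theorem isPGroup_VJ (R : RGD cs h p T n X) (J : Set I) : IsPGroup p ↥(VJ cs h X J) :=
  R.isPGroup_of_pos fun _ hx => ⟨hx.1, hx.2.1⟩

theorem isPGroup_VNJ (R : RGD cs h p T n X) (J : Set I) : IsPGroup p ↥(VNJ cs h X J) :=
  (isPGroup_UN' R).to_le (VNJ_le_UN J)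

theorem isPGroup_UJ (R : RGD cs h p T n X) (J : Set I) : IsPGroup p ↥(UJ cs h X J) :=
  R.isPGroup_of_pos fun _ hx => ⟨hx.1, hx.2.1⟩

theorem isPGroup_UNJ (R : RGD cs h p T n X) (J : Set I) : IsPGroup p ↥(UNJ cs h X J) :=
  (isPGroup_UN' R).to_le (RGD.Sup_le fun z hz => RGD.le_Sup (S := {x | IsRoot cs h x ∧ x ≤ 0}) ⟨by
      have := hz.1.neg; rwa [neg_neg] at this, by have := hz.2.1; exact neg_nonneg.1 this⟩)

/-- **No fixed points.** -/
theorem nf_of_lft (hc : π.ker ≤ Subgroup.center E) (hk : (Nat.card π.ker).Coprime p) {V : Subgroup Y}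
    (hV : IsPGroup p V) {V' : Subgroup E} (hV' : V' ≤ lft p π V) {c : E} (h : NF V (π c)) : NF V' c := by
  intro x hx hcx
  have h1 := hV' hx
  refine eq_one_of_mem_lft hc hk hV h1 (h _ ((mem_lft hc hV).1 h1).1 ?_)
  rw [← map_mul, ← map_inv, ← map_mul, hcx]

/-- the lift of a subgroup of the image of a `p`-group -/
theorem lft_le_map (hc : π.ker ≤ Subgroup.center E) (hk : (Nat.card π.ker).Coprime p) {S : Type*} [Group S]
    {φ' : S →* E} {U : Subgroup S} (hU : IsPGroup p U) {V : Subgroup Y} (hV : IsPGroup p V)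
    (h : V ≤ U.map (π.comp φ')) : lft p π V ≤ U.map φ' := by
  intro y hy
  obtain ⟨h1, k, hk1⟩ := (mem_lft hc hV).1 hy
  obtain ⟨u, hu, hu'⟩ := h h1
  have h2 : π (φ' u) = π y := hu'
  obtain ⟨l, hl⟩ := hU ⟨u, hu⟩
  have hl' : u ^ p ^ l = 1 := by simpa using congrArg Subtype.val hl
  have hl2 : φ' u ^ p ^ l = 1 := by rw [← map_pow, hl', map_one]
  -- `y` and `φ' u` differ by a central `p`-element of the kernel
  obtain ⟨z, hz⟩ : ∃ z, z = y⁻¹ * φ' u := ⟨_, rfl⟩
  have hz1 : π z = 1 := by rw [hz, map_mul, map_inv, h2, inv_mul_cancel]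
  have hzc : z ∈ Subgroup.center E := hc hz1
  have hcomm : Commute z y := (Subgroup.mem_center_iff.1 hzc y).symm
  have h3 : φ' u = y * z := by rw [hz]; group
  have h4 : z ^ p ^ (k + l) = 1 := by
    have h5 : φ' u ^ p ^ (k + l) = 1 := by rw [pow_add, mul_comm, pow_mul, hl2, one_pow]
    have h6 : y ^ p ^ (k + l) = 1 := by rw [pow_add, pow_mul, hk1, one_pow]
    rw [h3, hcomm.symm.mul_pow, h6, one_mul] at h5
    exact h5
  have h5 := eq_one_of_ker hk hz1 h4
  rw [h5, mul_one] at h3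
  exact ⟨u, hu, h3⟩

/-- **The Levi subgroup** of the lifted datum. -/
theorem mem_LJ_lift (hc : π.ker ≤ Subgroup.center E) (hk : (Nat.card π.ker).Coprime p) (hs : Function.Surjective π)
    (R : RGD cs h p T n X) (J : Set I) {y : E} (hy : π y ∈ LJ cs h T X J) :
    y ∈ LJ cs h (T.comap π) (fun x => lft p π (X x)) J := by
  have h1 : LJ cs h T X J ≤ (LJ cs h (T.comap π) (fun x => lft p π (X x)) J).map π := by
    refine sup_le ?_ (RGD.Sup_le fun x hx => ?_)
    · intro t ht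
      obtain ⟨t', rfl⟩ := hs t
      exact ⟨t', T_le_LJ ht, rfl⟩
    · rw [← map_lft hc hk hs (R.pgrp' hx.1)]
      refine Subgroup.map_mono ?_
      exact le_trans (RGD.le_Sup (X := fun x => lft p π (X x)) hx) le_sup_right
  obtain ⟨y', hy', e⟩ := h1 hy
  have h2 : y'⁻¹ * y ∈ T.comap π := by
    rw [Subgroup.mem_comap, map_mul, map_inv, e, inv_mul_cancel]
    exact one_mem _
  have h3 : y = y' * (y'⁻¹ * y) := by group
  rw [h3]
  exact mul_mem hy' (T_le_LJ h2)

variable {F : I → Type*} [∀ i, Field (F i)] {s' : ∀ i, Matrix.SpecialLinearGroup (Fin 2) (F i) →* E}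

/-- **All elements outside the kernel are commutators.** One block: `φ' : S →* E`, `c₀ ∈ S`, `U`, `V` the unipotent
subgroups of `S`. -/
theorem isC_lift (R : RGD cs h p T n X) [Nonempty I] [IsSimpleGroup Y]
    (hc : π.ker ≤ Subgroup.center E) (hk : (Nat.card π.ker).Coprime p) (hs : Function.Surjective π)
    (hG' : G1 cs h (fun x => lft p π (X x)) = ⊤) (C' : Coord (fun x => lft p π (X x)) F s')
    (hconn : ∀ J : Set I, J.Nonempty → J ≠ Set.univ → ∃ a ∈ J, ∃ b, b ∉ J ∧ M a b ≠ 2)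
    {J : Set I} {S : Type*} [Group S] {φ' : S →* E} {c₀ : S} {U V : Subgroup S} (hU : IsPGroup p U)
    (hV : IsPGroup p V) (hr : ∀ g, π (φ' g) ∈ LJ cs h T X J)
    (hUJ : UJ cs h X J ≤ U.map (π.comp φ')) (hVJ : UNJ cs h X J ≤ V.map (π.comp φ'))
    (hmf : ∀ L ∈ V, ∀ u ∈ U, ∃ g k : S, L * u = (g * c₀ * g⁻¹) * (k * c₀⁻¹ * k⁻¹))
    (hnf : ∀ g, NF (VJ cs h X J) (π (φ' (g * c₀ * g⁻¹))))
    (hnf' : ∀ g, NF (VNJ cs h X J) (π (φ' (g * c₀ * g⁻¹))))
    {g : E} (hg : π g ≠ 1) : Cfsg.Agent.H777.Ore.IsC g := by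
  obtain ⟨n', hn'⟩ : ∃ n' : I → E, ∀ i, π (n' i) = n i := by
    choose n' hn' using fun i => hs (n i)
    exact ⟨n', hn'⟩
  have R' := rgd_lift hc hk hs R hn'
  refine Cfsg.Agent.H928.Ore.Frame.comm R' hG' C' hconn (J := J) (fun v hv u hu => ?_) (fun h1 => hg ?_)
  · have hv' : v ∈ V.map φ' := by
      have h2 : v ∈ lft p π (UNJ cs h X J) := sup_le_lft _ hv
      exact lft_le_map hc hk hV (isPGroup_UNJ R J) hVJ h2
    have hu' : u ∈ U.map φ' := by
      have h2 : u ∈ lft p π (UJ cs h X J) := sup_le_lft _ hu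
      exact lft_le_map hc hk hU (isPGroup_UJ R J) hUJ h2
    obtain ⟨L, hL, rfl⟩ := hv'
    obtain ⟨u₁, hu₁, rfl⟩ := hu'
    obtain ⟨g, k, e⟩ := hmf L hL u₁ hu₁
    refine ⟨φ' (g * c₀ * g⁻¹), φ' (k * c₀⁻¹ * k⁻¹), by rw [← map_mul, ← map_mul, e], ⟨?_, ?_, ?_, ?_⟩,
      φ' (k * g⁻¹), ?_⟩
    · exact mem_LJ_lift hc hk hs R J (hr _)
    · exact mem_LJ_lift hc hk hs R J (hr _)
    · exact nf_of_lft hc hk (isPGroup_VNJ R J) (sup_le_lft _) (hnf' g)
    · have h1 : k * c₀⁻¹ * k⁻¹ = (k * c₀ * k⁻¹)⁻¹ := by group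
      rw [h1, map_inv]
      have h2 := nf_of_lft hc hk (isPGroup_VJ R J) (sup_le_lft _) (hnf k)
      intro x hx hcx
      refine h2 x hx ?_
      rw [inv_inv] at hcx
      calc φ' (k * c₀ * k⁻¹) * x * (φ' (k * c₀ * k⁻¹))⁻¹
          = φ' (k * c₀ * k⁻¹) * ((φ' (k * c₀ * k⁻¹))⁻¹ * x * φ' (k * c₀ * k⁻¹)) * (φ' (k * c₀ * k⁻¹))⁻¹ := by
            rw [hcx]
        _ = x := by group
    · rw [← map_inv, ← map_mul, ← map_inv, ← map_mul]
      congr 1
      group
  · exact Cfsg.Agent.H162.GaussMain.core_le_ker R' π hs hc h1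

end Rgd

end Cfsg.Agent.H643.QO
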